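import Groth.Agent.Lib.TateSub22.Range
import Groth.Agent.Lib.TateTors22.TateFinite
import Mathlib.LinearAlgebra.TensorProduct.Basis

/-!
# Tate's graph argument for equivariant endomorphisms
-/

universe u

open CategoryTheory Limits MonoidalCategory CartesianMonoidalCategory AlgebraicGeometry
open scoped MonObj GrpObj TensorProduct

set_option linter.style.haveILetI false
set_option linter.unusedSectionVars false
set_option maxHeartbeats 1000000
set_option synthInstance.maxHeartbeats 400000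
set_option backward.isDefEq.respectTransparency false

noncomputable section

namespace Groth.Agent.TateSub22

variable {k : Type u} [Field k] (Ω : Type u) [Field Ω] [Algebra k Ω] (l : ℕ) [Fact l.Prime]

theorem co_map {X Y : Over (Spec (CommRingCat.of k))} [GrpObj X] [IsCommMonObj X] [GrpObj Y] [IsCommMonObj Y]
    (f : X ⟶ Y) [IsMonHom f] (z : AbDual.TateMod X l (SGA7.pt (K := k) Ω)) (n : ℕ) :
    co Ω l n (AbDual.tateMapₗ (l := l) (T := SGA7.pt (K := k) Ω) f z) = co Ω l n z ≫ f := rfl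

theorem tate_ext {X : Over (Spec (CommRingCat.of k))} [GrpObj X] [IsCommMonObj X]
    {z w : AbDual.TateMod X l (SGA7.pt (K := k) Ω)} (h : ∀ n, co Ω l n z = co Ω l n w) : z = w :=
  AbDual.TateMod.ext fun n => congrArg Additive.ofMul (h n)

theorem map_comp' {X Y Z : Over (Spec (CommRingCat.of k))} [GrpObj X] [IsCommMonObj X] [GrpObj Y] [IsCommMonObj Y]
    [GrpObj Z] [IsCommMonObj Z] (f : X ⟶ Y) [IsMonHom f] (g : Y ⟶ Z) [IsMonHom g]
    (z : AbDual.TateMod X l (SGA7.pt (K := k) Ω)) :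
    AbDual.tateMapₗ (l := l) (T := SGA7.pt (K := k) Ω) g (AbDual.tateMapₗ (l := l) (T := SGA7.pt (K := k) Ω) f z) =
      AbDual.tateMapₗ (l := l) (T := SGA7.pt (K := k) Ω) (f ≫ g) z :=
  tate_ext Ω l fun n => by rw [co_map, co_map, co_map, Category.assoc]

theorem map_id' {X : Over (Spec (CommRingCat.of k))} [GrpObj X] [IsCommMonObj X] {f : X ⟶ X} [IsMonHom f] (hf : f = 𝟙 X)
    (z : AbDual.TateMod X l (SGA7.pt (K := k) Ω)) : AbDual.tateMapₗ (l := l) (T := SGA7.pt (K := k) Ω) f z = z :=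
  tate_ext Ω l fun n => by rw [co_map, hf, Category.comp_id]

theorem map_one' {X Y : Over (Spec (CommRingCat.of k))} [GrpObj X] [IsCommMonObj X] [GrpObj Y] [IsCommMonObj Y]
    {f : X ⟶ Y} [IsMonHom f] (hf : f = 1)
    (z : AbDual.TateMod X l (SGA7.pt (K := k) Ω)) : AbDual.tateMapₗ (l := l) (T := SGA7.pt (K := k) Ω) f z = 0 :=
  tate_ext Ω l fun n => by rw [co_map, hf, MonObj.comp_one]; rfl

/-- An endomorphism induced by a homomorphism commutes with the Galois action. -/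
theorem map_comm {X : Over (Spec (CommRingCat.of k))} [GrpObj X] [IsCommMonObj X] (f : X ⟶ X) [IsMonHom f]
    (τ : Ω ≃ₐ[k] Ω) (r : Module.End ℤ_[l] (AbDual.TateMod X l (SGA7.pt (K := k) Ω)))
    (hr : ∀ z n, co Ω l n (r z) = SGA7.galAct τ (co Ω l n z)) :
    AbDual.tateMapₗ (l := l) (T := SGA7.pt (K := k) Ω) f ∘ₗ r =
      r ∘ₗ AbDual.tateMapₗ (l := l) (T := SGA7.pt (K := k) Ω) f :=
  LinearMap.ext fun z => tate_ext Ω l fun n => by
    rw [LinearMap.comp_apply, LinearMap.comp_apply, co_map, hr, hr, co_map]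
    exact Category.assoc _ _ _

variable [IsAlgClosure k Ω] {X : Over (Spec (CommRingCat.of k))}
  [GrpObj X] [IsCommMonObj X] [IsProper X.hom] [GeometricallyIntegral X.hom]

theorem inj_one_tmul [Module.Free ℤ_[l] (AbDual.TateMod X l (SGA7.pt (K := k) Ω))] :
    Function.Injective fun t : AbDual.TateMod X l (SGA7.pt (K := k) Ω) => (1 : ℚ_[l]) ⊗ₜ[ℤ_[l]] t := by
  intro x y hxy
  let b := Module.Free.chooseBasis ℤ_[l] (AbDual.TateMod X l (SGA7.pt (K := k) Ω))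
  refine b.repr.injective (Finsupp.ext fun i => ?_)
  have h := congrArg (fun v => (Algebra.TensorProduct.basis ℚ_[l] b).repr v i) hxy
  simp only [Algebra.TensorProduct.basis_repr_tmul, Finsupp.smul_apply, Finsupp.mapRange_apply, one_smul] at h
  exact Subtype.ext h

/-- Tate's proposition 2: an equivariant endomorphism commutes with the commutant of the endomorphisms. -/
theorem comm_of_equivariant (hl : (l : k) ≠ 0)
    (hFin : (∃ (J : Type u) (_ : Finite J) (F : J → Over (Spec (CommRingCat.of k))),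
        ∀ (Y : Over (Spec (CommRingCat.of k))) [GrpObj Y] [IsCommMonObj Y] [IsProper Y.hom] [GeometricallyIntegral Y.hom]
          (u : X ⊗ X ⟶ Y) [IsMonHom u] (v : Y ⟶ X ⊗ X) [IsMonHom v] (m : ℕ),
          u ≫ v = (𝟙 (X ⊗ X)) ^ (l ^ m) → v ≫ u = (𝟙 Y) ^ (l ^ m) → ∃ i, Nonempty (Y ≅ F i)))
    [IsProper (X ⊗ X).hom] [GeometricallyIntegral (X ⊗ X).hom]
    (ρ : (Ω ≃ₐ[k] Ω) → Module.End ℤ_[l] (AbDual.TateMod X l (SGA7.pt (K := k) Ω)))
    (hρ : ∀ τ z n, co Ω l n (ρ τ z) = SGA7.galAct τ (co Ω l n z))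
    (ψ : Module.End ℤ_[l] (AbDual.TateMod X l (SGA7.pt (K := k) Ω))) (hψ : ∀ τ z, ψ (ρ τ z) = ρ τ (ψ z))
    (c : Module.End ℚ_[l] (ℚ_[l] ⊗[ℤ_[l]] AbDual.TateMod X l (SGA7.pt (K := k) Ω)))
    (hc : ∀ (f : X ⟶ X) (_ : IsMonHom f), c * (AbDual.tateMapₗ (l := l) (T := SGA7.pt (K := k) Ω) f).baseChange ℚ_[l] =
      (AbDual.tateMapₗ (l := l) (T := SGA7.pt (K := k) Ω) f).baseChange ℚ_[l] * c) :
    ψ.baseChange ℚ_[l] * c = c * ψ.baseChange ℚ_[l] := by
  classical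
  haveI : IsAlgClosed Ω := IsAlgClosure.isAlgClosed k
  haveI : Module.Free ℤ_[l] (AbDual.TateMod (X ⊗ X) l (SGA7.pt (K := k) Ω)) := TateTors22.free_tateMod (K := Ω) l hl
  haveI : Module.Finite ℤ_[l] (AbDual.TateMod (X ⊗ X) l (SGA7.pt (K := k) Ω)) := TateTors22.finite_tateMod (K := Ω) l hl
  let ι₁ : X ⟶ X ⊗ X := lift (𝟙 X) 1
  let ι₂ : X ⟶ X ⊗ X := lift 1 (𝟙 X)
  haveI : IsMonHom ι₁ := by show IsMonHom (lift (𝟙 X) (1 : X ⟶ X)); rw [Hom.one_def]; infer_instance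
  haveI : IsMonHom ι₂ := by show IsMonHom (lift (1 : X ⟶ X) (𝟙 X)); rw [Hom.one_def]; infer_instance
  let T₁ := AbDual.tateMapₗ (l := l) (T := SGA7.pt (K := k) Ω) (fst X X)
  let T₂ := AbDual.tateMapₗ (l := l) (T := SGA7.pt (K := k) Ω) (snd X X)
  let J₁ := AbDual.tateMapₗ (l := l) (T := SGA7.pt (K := k) Ω) ι₁
  let J₂ := AbDual.tateMapₗ (l := l) (T := SGA7.pt (K := k) Ω) ι₂
  have h11 : ∀ x, T₁ (J₁ x) = x := fun x => by rw [map_comp']; exact map_id' Ω l (lift_fst _ _) x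
  have h21 : ∀ x, T₂ (J₁ x) = 0 := fun x => by rw [map_comp']; exact map_one' Ω l (lift_snd _ _) x
  have h12 : ∀ x, T₁ (J₂ x) = 0 := fun x => by rw [map_comp']; exact map_one' Ω l (lift_fst _ _) x
  have h22 : ∀ x, T₂ (J₂ x) = x := fun x => by rw [map_comp']; exact map_id' Ω l (lift_snd _ _) x
  have hdec : ∀ z, z = J₁ (T₁ z) + J₂ (T₂ z) := fun z => tate_ext Ω l fun n => by
    show co Ω l n z = (co Ω l n z ≫ fst X X) ≫ ι₁ * (co Ω l n z ≫ snd X X) ≫ ι₂
    rw [Category.assoc, Category.assoc, ← MonObj.comp_mul]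
    conv_lhs => rw [← Category.comp_id (co Ω l n z)]
    congr 1
    apply CartesianMonoidalCategory.hom_ext <;>
      simp [ι₁, ι₂, MonObj.mul_comp, Category.assoc]
  let S := LinearMap.ker (ψ ∘ₗ T₁ - T₂)
  have hSmem : ∀ z, z ∈ S ↔ ψ (T₁ z) = T₂ z := fun z => by
    simp only [S, LinearMap.mem_ker, LinearMap.sub_apply, LinearMap.comp_apply, sub_eq_zero]
  obtain ⟨g, hg, hgS, N, hgw⟩ := exists_range Ω l S hl hFin (fun τ z hz n => by
    refine ⟨J₁ (ρ τ (T₁ z)) + J₂ (ρ τ (T₂ z)), ?_, ?_⟩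
    · rw [hSmem, map_add, h11, h12, add_zero, map_add, h21, h22, zero_add, hψ, (hSmem z).1 hz]
    · show (co Ω l n (ρ τ (T₁ z)) ≫ ι₁) * (co Ω l n (ρ τ (T₂ z)) ≫ ι₂) = _
      rw [hρ, hρ]
      apply CartesianMonoidalCategory.hom_ext
      · rw [MonObj.mul_comp, Category.assoc, Category.assoc, lift_fst, lift_fst, MonObj.comp_one, Category.comp_id,
          _root_.mul_one]
        exact (Category.assoc _ _ _).symm
      · rw [MonObj.mul_comp, Category.assoc, Category.assoc, lift_snd, lift_snd, MonObj.comp_one, Category.comp_id,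
          _root_.one_mul]
        exact (Category.assoc _ _ _).symm)
  have hblock : ∀ (f : X ⟶ X ⊗ X) (p : X ⊗ X ⟶ X) (_ : IsMonHom f) (_ : IsMonHom p),
      c * (AbDual.tateMapₗ (l := l) (T := SGA7.pt (K := k) Ω) p ∘ₗ g ∘ₗ
          AbDual.tateMapₗ (l := l) (T := SGA7.pt (K := k) Ω) f).baseChange ℚ_[l] =
        (AbDual.tateMapₗ (l := l) (T := SGA7.pt (K := k) Ω) p ∘ₗ g ∘ₗ
          AbDual.tateMapₗ (l := l) (T := SGA7.pt (K := k) Ω) f).baseChange ℚ_[l] * c := by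
    intro f p hf hp
    clear hgS hgw
    induction hg using Submodule.span_induction with
    | mem x hx =>
      obtain ⟨q, hq, rfl⟩ := hx
      rw [show AbDual.tateMapₗ (l := l) (T := SGA7.pt (K := k) Ω) p ∘ₗ AbDual.tateMapₗ (l := l) (T := SGA7.pt (K := k) Ω) q ∘ₗ
          AbDual.tateMapₗ (l := l) (T := SGA7.pt (K := k) Ω) f =
        AbDual.tateMapₗ (l := l) (T := SGA7.pt (K := k) Ω) ((f ≫ q) ≫ p) from LinearMap.ext fun z => by
          refine tate_ext Ω l fun n => ?_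
          rw [LinearMap.comp_apply, LinearMap.comp_apply, co_map, co_map, co_map, co_map]
          simp only [Category.assoc]]
      exact hc _ inferInstance
    | zero => rw [LinearMap.zero_comp, LinearMap.comp_zero, LinearMap.baseChange_zero, mul_zero, zero_mul]
    | add x y _ _ hx hy =>
      rw [LinearMap.add_comp, LinearMap.comp_add, LinearMap.baseChange_add, mul_add, add_mul, hx, hy]
    | smul r x _ hx =>
      rw [LinearMap.smul_comp, LinearMap.comp_smul, LinearMap.baseChange_smul, mul_smul_comm, smul_mul_assoc, hx]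
  have key : ∀ (f : X ⟶ X ⊗ X) (_ : IsMonHom f) (x : AbDual.TateMod X l (SGA7.pt (K := k) Ω)),
      (ψ.baseChange ℚ_[l] * c) ((1 : ℚ_[l]) ⊗ₜ[ℤ_[l]] T₁ (g (AbDual.tateMapₗ (l := l) (T := SGA7.pt (K := k) Ω) f x))) =
        (c * ψ.baseChange ℚ_[l]) ((1 : ℚ_[l]) ⊗ₜ[ℤ_[l]] T₁ (g (AbDual.tateMapₗ (l := l) (T := SGA7.pt (K := k) Ω) f x))) := by
    intro f hf x
    let A := T₁ ∘ₗ g ∘ₗ AbDual.tateMapₗ (l := l) (T := SGA7.pt (K := k) Ω) f
    let C := T₂ ∘ₗ g ∘ₗ AbDual.tateMapₗ (l := l) (T := SGA7.pt (K := k) Ω) f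
    have hA : c * A.baseChange ℚ_[l] = A.baseChange ℚ_[l] * c := hblock f (fst X X) hf inferInstance
    have hC : c * C.baseChange ℚ_[l] = C.baseChange ℚ_[l] * c := hblock f (snd X X) hf inferInstance
    have hAC : ψ.baseChange ℚ_[l] * A.baseChange ℚ_[l] = C.baseChange ℚ_[l] := by
      rw [Module.End.mul_eq_comp, ← LinearMap.baseChange_comp]
      exact congrArg _ (LinearMap.ext fun z => (hSmem _).1 (hgS _))
    show (ψ.baseChange ℚ_[l] * c) ((A.baseChange ℚ_[l]) ((1 : ℚ_[l]) ⊗ₜ[ℤ_[l]] x)) =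
      (c * ψ.baseChange ℚ_[l]) ((A.baseChange ℚ_[l]) ((1 : ℚ_[l]) ⊗ₜ[ℤ_[l]] x))
    rw [← Module.End.mul_apply, ← Module.End.mul_apply, _root_.mul_assoc, hA, ← _root_.mul_assoc, hAC,
      _root_.mul_assoc, hAC, hC]
  refine LinearMap.ext fun v => ?_
  induction v using TensorProduct.induction_on with
  | zero => rw [map_zero, map_zero]
  | add x y hx hy => rw [map_add, map_add, hx, hy]
  | tmul q x =>
    obtain ⟨z, hz⟩ := hgw (J₁ x + J₂ (ψ x)) (by rw [hSmem, map_add, h11, h12, add_zero, map_add, h21, h22, zero_add])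
    have hx : (l : ℤ_[l]) ^ N • x = T₁ (g (J₁ (T₁ z))) + T₁ (g (J₂ (T₂ z))) := by
      rw [← map_add, ← map_add, ← hdec, hz, map_smul, map_add, h11, h12, add_zero]
    have hl0 : ((l : ℚ_[l]) ^ N : ℚ_[l]) ≠ 0 := pow_ne_zero _ (Nat.cast_ne_zero.2 (Fact.out : l.Prime).ne_zero)
    have h1 : (q ⊗ₜ[ℤ_[l]] x : ℚ_[l] ⊗[ℤ_[l]] AbDual.TateMod X l (SGA7.pt (K := k) Ω)) =
        (q * ((l : ℚ_[l]) ^ N)⁻¹) • ((1 : ℚ_[l]) ⊗ₜ[ℤ_[l]] ((l : ℤ_[l]) ^ N • x)) := by
      rw [TensorProduct.tmul_smul, ← algebraMap_smul ℚ_[l] ((l : ℤ_[l]) ^ N), _root_.map_pow, map_natCast, smul_smul,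
        _root_.mul_assoc, inv_mul_cancel₀ hl0, _root_.mul_one, TensorProduct.smul_tmul', smul_eq_mul, _root_.mul_one]
    rw [h1, map_smul, map_smul, hx, TensorProduct.tmul_add, map_add, map_add, key ι₁ inferInstance,
      key ι₂ inferInstance]

end Groth.Agent.TateSub22

end
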