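import Mathlib.NumberTheory.Padics.PadicIntegers
import Mathlib.RingTheory.TensorProduct.Basic

/-!
# Clearing denominators in a rational `l`-adic module
-/

open scoped TensorProduct

namespace Groth.Agent.TateSub22

theorem exists_pow_smul_eq (l : ℕ) [Fact l.Prime] {T : Type*} [AddCommGroup T] [Module ℤ_[l] T]
    (w : ℚ_[l] ⊗[ℤ_[l]] T) : ∃ (a : ℕ) (t : T), (l : ℚ_[l]) ^ a • w = (1 : ℚ_[l]) ⊗ₜ[ℤ_[l]] t := by
  induction w using TensorProduct.induction_on with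
  | zero => exact ⟨0, 0, by rw [smul_zero, TensorProduct.tmul_zero]⟩
  | tmul q x =>
    obtain ⟨a, ha⟩ : ∃ a : ℕ, ‖(l : ℚ_[l]) ^ a * q‖ ≤ 1 := by
      have h1 : ((l : ℝ))⁻¹ < 1 := inv_lt_one_of_one_lt₀ (by exact_mod_cast (Fact.out : l.Prime).one_lt)
      obtain ⟨a, ha⟩ := exists_pow_lt_of_lt_one (show (0 : ℝ) < (‖q‖ + 1)⁻¹ by positivity) h1
      refine ⟨a, ?_⟩
      rw [norm_mul, norm_pow, Padic.norm_p]
      calc ((l : ℝ))⁻¹ ^ a * ‖q‖ ≤ (‖q‖ + 1)⁻¹ * (‖q‖ + 1) :=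
            mul_le_mul ha.le (by linarith) (norm_nonneg _) (by positivity)
        _ = 1 := inv_mul_cancel₀ (by positivity)
    obtain ⟨c, hc⟩ : ∃ c : ℤ_[l], (c : ℚ_[l]) = (l : ℚ_[l]) ^ a * q := ⟨⟨_, ha⟩, rfl⟩
    refine ⟨a, c • x, ?_⟩
    rw [TensorProduct.smul_tmul', TensorProduct.tmul_smul, TensorProduct.smul_tmul', smul_eq_mul, ← hc,
      Algebra.smul_def, _root_.mul_one, PadicInt.algebraMap_apply]
  | add x y hx hy =>
    obtain ⟨a, s, hs⟩ := hx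
    obtain ⟨b, t, ht⟩ := hy
    refine ⟨a + b, (l : ℤ_[l]) ^ b • s + (l : ℤ_[l]) ^ a • t, ?_⟩
    rw [smul_add, TensorProduct.tmul_add, TensorProduct.tmul_smul, TensorProduct.tmul_smul, ← hs, ← ht,
      ← algebraMap_smul ℚ_[l] ((l : ℤ_[l]) ^ b), ← algebraMap_smul ℚ_[l] ((l : ℤ_[l]) ^ a), smul_smul, smul_smul,
      _root_.map_pow, _root_.map_pow, map_natCast, ← pow_add, ← pow_add, Nat.add_comm b a]

end Groth.Agent.TateSub22
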