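import Groth.Agent.S15651
import Groth.Agent.Lib.Brauer25.Semisimple
import Groth.Agent.Lib.AVCSA22.End0
import Mathlib.RingTheory.SimpleModule.Basic
import Mathlib.FieldTheory.Perfect

/-!
# The semisimple algebra spanned by the endomorphisms on the rational Tate module
-/

universe u

open CategoryTheory AlgebraicGeometry MonoidalCategory CartesianMonoidalCategory MonObj
open scoped TensorProduct

set_option linter.style.haveILetI false
set_option backward.isDefEq.respectTransparency false
set_option maxHeartbeats 1000000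
set_option synthInstance.maxHeartbeats 400000

noncomputable section

namespace Groth.Agent.TateSub22

/-- Semisimple rings are von Neumann regular. -/
theorem exists_regular {R : Type*} [Ring R] [IsSemisimpleRing R] (u : R) : ∃ x : R, u * x * u = u := by
  obtain ⟨I, hI⟩ := exists_isCompl (Ideal.span ({u} : Set R) : Submodule R R)
  have h1 : (1 : R) ∈ (Ideal.span ({u} : Set R) : Submodule R R) ⊔ I := by rw [hI.sup_eq_top]; trivial
  obtain ⟨a, ha, b, hb, hab⟩ := Submodule.mem_sup.1 h1
  obtain ⟨x, rfl⟩ := Ideal.mem_span_singleton'.1 ha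
  refine ⟨x, ?_⟩
  have h2 : u * b = u - u * x * u := by
    rw [eq_sub_of_add_eq' hab, mul_sub, _root_.mul_one, _root_.mul_assoc]
  have h3 : u * b ∈ (Ideal.span ({u} : Set R) : Submodule R R) ⊓ I :=
    ⟨Ideal.mem_span_singleton'.2 ⟨1 - u * x, by rw [h2, sub_mul, _root_.one_mul]⟩, I.smul_mem u hb⟩
  rw [hI.inf_eq_bot, Submodule.mem_bot, h2, sub_eq_zero] at h3
  exact h3.symm

theorem isSeparable_center {K : Type*} [Field K] [CharZero K] {A : Type*} [Ring A] [Algebra K A] [FiniteDimensional K A]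
    [IsSemisimpleRing A] {c : A} (hc : c ∈ Subalgebra.center K A) : IsSeparable K c := by
  have hint : IsIntegral K c := Algebra.IsIntegral.isIntegral c
  refine PerfectField.separable_iff_squarefree.2 fun p hp => ?_
  obtain ⟨r, hr⟩ := hp
  have hy : Polynomial.aeval c (p * r) ∈ Subalgebra.center K A := by
    rw [Subalgebra.mem_center_iff]
    intro b
    induction (p * r) using Polynomial.induction_on' with
    | add f g hf hg => rw [map_add, mul_add, add_mul, hf, hg]
    | monomial n a =>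
      rw [Polynomial.aeval_monomial]
      exact (Subalgebra.mem_center_iff.1 (mul_mem (Subalgebra.algebraMap_mem _ a) (pow_mem hc n)) b)
  have hsq : Polynomial.aeval c (p * r) * Polynomial.aeval c (p * r) = 0 := by
    rw [← map_mul, show p * r * (p * r) = minpoly K c * r by rw [hr]; ring, map_mul, minpoly.aeval, zero_mul]
  obtain ⟨x, hx⟩ := exists_regular (Polynomial.aeval c (p * r))
  have h0 : Polynomial.aeval c (p * r) = 0 := by
    rw [← hx, ← Subalgebra.mem_center_iff.1 hy x, _root_.mul_assoc, hsq, mul_zero]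
  have hd : minpoly K c ∣ p * r := minpoly.dvd K c h0
  have hne : p * r ≠ 0 := fun h => minpoly.ne_zero hint (by rw [hr, _root_.mul_assoc, h, mul_zero])
  have h4 : p * (p * r) ∣ 1 * (p * r) := by rwa [_root_.one_mul, ← _root_.mul_assoc, ← hr]
  exact isUnit_of_dvd_one ((mul_dvd_mul_iff_right hne).1 h4)

/-- Double centraliser theorem for a semisimple algebra of endomorphisms. -/
theorem mem_of_commutes {K : Type*} [Field K] {V : Type*} [AddCommGroup V] [Module K V] [FiniteDimensional K V]
    (E : Subalgebra K (Module.End K V)) [IsSemisimpleRing E] (φ : Module.End K V)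
    (h : ∀ c' : Module.End K V, (∀ e ∈ E, c' * e = e * c') → φ * c' = c' * φ) : φ ∈ E := by
  classical
  let f : Module.End (Module.End E V) V :=
    { toFun := φ
      map_add' := φ.map_add
      map_smul' := fun c' m => by
        have hlin : ∀ (r : K) (x : V), c' (r • x) = r • c' x := fun r x => by
          have := c'.map_smul (algebraMap K E r) x
          simpa only [algebraMap_smul] using this
        let c'' : Module.End K V := { toFun := c', map_add' := c'.map_add, map_smul' := hlin }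
        have := h c'' (fun e he => LinearMap.ext fun x => c'.map_smul ⟨e, he⟩ x)
        exact LinearMap.congr_fun this m }
  let b := Module.finBasis K V
  obtain ⟨r, hr⟩ := jacobson_density (R := E) f (Finset.univ.image b)
  have : φ = (r : Module.End K V) := b.ext fun i => hr (b i) (Finset.mem_image_of_mem _ (Finset.mem_univ i))
  exact this ▸ r.2

variable {k : Type u} [Field k] (X : Over (Spec (CommRingCat.of k)))
  [GrpObj X] [IsCommMonObj X] [IsProper X.hom] [GeometricallyIntegral X.hom]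
  (Ω : Type u) [Field Ω] [Algebra k Ω] (l : ℕ) [Fact l.Prime]

/-- The set of the endomorphisms of the rational Tate module coming from `X`. -/
abbrev endSet : Set (Module.End ℚ_[l] (ℚ_[l] ⊗[ℤ_[l]] AbDual.TateMod X l (SGA7.pt (K := k) Ω))) :=
  {ψ | ∃ (f : X ⟶ X) (_ : IsMonHom f), ψ = (AbDual.tateMapₗ (l := l) (T := SGA7.pt (K := k) Ω) f).baseChange ℚ_[l]}

/-- The span of the endomorphisms is a semisimple algebra. -/
theorem exists_subalgebra :
    ∃ E : Subalgebra ℚ_[l] (Module.End ℚ_[l] (ℚ_[l] ⊗[ℤ_[l]] AbDual.TateMod X l (SGA7.pt (K := k) Ω))),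
      IsSemisimpleRing E ∧ E.toSubmodule = Submodule.span ℚ_[l] (endSet X Ω l) := by
  classical
  let V := ℚ_[l] ⊗[ℤ_[l]] AbDual.TateMod X l (SGA7.pt (K := k) Ω)
  let Φ : EndAV.End X →+* Module.End ℚ_[l] V :=
    (Module.End.baseChangeHom ℤ_[l] ℚ_[l] (AbDual.TateMod X l (SGA7.pt (K := k) Ω))).toRingHom.comp
      (EndAV.End.tateRep (A := X) l (SGA7.pt (K := k) Ω))
  have hΦ : ∀ n : ℤ, Φ (algebraMap ℤ (EndAV.End X) n) = algebraMap ℤ (Module.End ℚ_[l] V) n := fun n => by
    rw [eq_intCast (algebraMap ℤ (EndAV.End X)), eq_intCast (algebraMap ℤ (Module.End ℚ_[l] V)), map_intCast]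
  let Φa : EndAV.End X →ₐ[ℤ] Module.End ℚ_[l] V := { Φ with commutes' := hΦ }
  let Φ0 : EndAV.End0 X →ₐ[ℚ] Module.End ℚ_[l] V :=
    Algebra.TensorProduct.lift (Algebra.ofId ℚ _) Φa fun q y => Algebra.commutes q (Φa y)
  let Ψ : ℚ_[l] ⊗[ℚ] EndAV.End0 X →ₐ[ℚ_[l]] Module.End ℚ_[l] V :=
    Algebra.TensorProduct.lift (Algebra.ofId ℚ_[l] _) Φ0 fun q y => Algebra.commutes q (Φ0 y)
  haveI : IsSemisimpleRing (EndAV.End0 X) := Groth.Agent.S15651.result k X
  haveI : Module.Finite ℚ (EndAV.End0 X) := Groth.Agent.AVCSA22.finite_end0 X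
  haveI : IsSemisimpleRing (ℚ_[l] ⊗[ℚ] EndAV.End0 X) :=
    Groth.Agent.Brauer25.isSemisimpleRing_baseChange (EndAV.End0 X) (fun c hc => isSeparable_center hc) ℚ_[l]
  refine ⟨Ψ.range, RingHom.isSemisimpleRing_of_surjective (R := ℚ_[l] ⊗[ℚ] EndAV.End0 X) (S := Ψ.range) Ψ.rangeRestrict.toRingHom Ψ.rangeRestrict_surjective,
    le_antisymm ?_ ?_⟩
  · rintro _ ⟨z, rfl⟩
    induction z using TensorProduct.induction_on with
    | zero => rw [map_zero]; exact zero_mem _
    | add x y hx hy => rw [map_add]; exact add_mem hx hy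
    | tmul q x =>
      obtain ⟨N, φ, hN, hφ⟩ := Groth.Agent.AVCSA22.exists_natCast_smul_eq_one_tmul x
      have hN' : (N : ℚ_[l]) ≠ 0 := Nat.cast_ne_zero.2 hN
      have h1 : (N : ℚ_[l]) • Φ0 x = Φ φ := by
        rw [show Φ φ = Φ0 ((N : ℚ) • x) from by
          rw [hφ, Algebra.TensorProduct.lift_tmul, map_one, _root_.one_mul]; rfl, map_smul,
          Nat.cast_smul_eq_nsmul, Nat.cast_smul_eq_nsmul]
      have h2 : Φ φ ∈ Submodule.span ℚ_[l] (endSet X Ω l) :=
        Submodule.subset_span ⟨φ.toHom, inferInstance, rfl⟩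
      show Ψ (q ⊗ₜ[ℚ] x) ∈ _
      rw [Algebra.TensorProduct.lift_tmul,
        show Φ0 x = (N : ℚ_[l])⁻¹ • Φ φ by rw [← h1, smul_smul, inv_mul_cancel₀ hN', one_smul]]
      rw [show (Algebra.ofId ℚ_[l] (Module.End ℚ_[l] V)) q = algebraMap ℚ_[l] _ q from rfl, ← Algebra.smul_def,
        smul_smul]
      exact Submodule.smul_mem _ _ h2
  · refine Submodule.span_le.2 ?_
    rintro _ ⟨f, hf, rfl⟩
    refine ⟨(1 : ℚ_[l]) ⊗ₜ[ℚ] EndAV.toEnd0 (EndAV.End.of f), ?_⟩
    show Ψ _ = _
    rw [Algebra.TensorProduct.lift_tmul, map_one, _root_.one_mul, EndAV.toEnd0_apply,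
      Algebra.TensorProduct.lift_tmul, map_one, _root_.one_mul]
    rfl

end Groth.Agent.TateSub22

end
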