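import Groth.Agent.Lib.TateTors22.GenField
import Groth.Agent.Lib.MTRigid29.CentralizerNormalizer
import Groth.Agent.Lib.ThetaSch13.Quot
import Groth.Agent.Lib.AbRigid.Geometric
import Groth.Agent.Lib.RatMapAV.Hom
import Groth.Agent.Lib.Isogeny14.Kernel
import Groth.Agent.S3030
import Groth.Prelude.Def_SGA7a

/-!
# The quotient by a Galois stable group of geometric torsion points
-/

universe u

open CategoryTheory Limits MonoidalCategory CartesianMonoidalCategory AlgebraicGeometry TopologicalSpace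
open scoped MonObj GrpObj

set_option linter.style.haveILetI false
set_option linter.unusedSectionVars false
set_option maxHeartbeats 1000000
set_option backward.isDefEq.respectTransparency false

noncomputable section

namespace Groth.Agent.TateSub22

variable {k : Type u} [Field k] (Ω : Type u) [Field Ω] [Algebra k Ω] [IsAlgClosure k Ω]

local notation "P" => SGA7.pt (K := k) Ω

theorem exists_algEquiv {L : Type u} [Field L] [Algebra k L] (e e' : L →ₐ[k] Ω) :
    ∃ τ : Ω ≃ₐ[k] Ω, ∀ x, τ (e x) = e' x := by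
  haveI : IsAlgClosed Ω := IsAlgClosure.isAlgClosed k
  haveI : Algebra.IsAlgebraic k Ω := IsAlgClosure.isAlgebraic
  haveI : Normal k Ω := IsAlgClosure.normal k Ω
  let g : e.fieldRange →ₐ[k] Ω := e'.comp (AlgEquiv.ofInjectiveField e).symm.toAlgHom
  let σ : Ω →ₐ[k] Ω := g.liftNormal Ω
  refine ⟨AlgEquiv.ofBijective σ (Algebra.IsAlgebraic.algHom_bijective σ), fun x => ?_⟩
  show σ (e x) = e' x
  have h := g.liftNormal_commutes Ω (AlgEquiv.ofInjectiveField e x)
  refine (show σ (e x) = _ from h).trans ?_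
  show e' ((AlgEquiv.ofInjectiveField e).symm (AlgEquiv.ofInjectiveField e x)) = e' x
  rw [AlgEquiv.symm_apply_apply]

/-- The scheme point under a geometric point. -/
def im {N : Over (Spec (CommRingCat.of k))} (x : P ⟶ N) : N.left := x.left (IsLocalRing.closedPoint Ω)

theorem im_comp {N M : Over (Spec (CommRingCat.of k))} (x : P ⟶ N) (f : N ⟶ M) : im Ω (x ≫ f) = f.left (im Ω x) :=
  rfl

/-- Geometric points over one scheme point are conjugate. -/
theorem exists_galAct_eq {N : Over (Spec (CommRingCat.of k))} (x y : P ⟶ N) (h : im Ω x = im Ω y) :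
    ∃ τ : Ω ≃ₐ[k] Ω, SGA7.galAct τ x = y := by
  obtain ⟨⟨z, e⟩, hx⟩ := (Scheme.SpecToEquivOfField Ω N.left).symm.surjective x.left
  obtain ⟨⟨z', e'⟩, hy⟩ := (Scheme.SpecToEquivOfField Ω N.left).symm.surjective y.left
  change Spec.map e ≫ N.left.fromSpecResidueField z = x.left at hx
  change Spec.map e' ≫ N.left.fromSpecResidueField z' = y.left at hy
  obtain rfl : z = z' := by
    have h1 : im Ω x = z := by rw [im, ← hx, Scheme.Hom.comp_apply, Scheme.fromSpecResidueField_apply]
    have h2 : im Ω y = z' := by rw [im, ← hy, Scheme.Hom.comp_apply, Scheme.fromSpecResidueField_apply]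
    rw [← h1, h, h2]
  let φ := Spec.preimage (N.left.fromSpecResidueField z ≫ N.hom)
  have hφ : Spec.map φ = N.left.fromSpecResidueField z ≫ N.hom := Spec.map_preimage _
  letI : Algebra k (N.left.residueField z) := φ.hom.toAlgebra
  have hc : ∀ (f : N.left.residueField z ⟶ CommRingCat.of Ω) (a : P ⟶ N),
      Spec.map f ≫ N.left.fromSpecResidueField z = a.left → ∀ c : k, f.hom (φ.hom c) = algebraMap k Ω c := by
    intro f a ha c
    have h1 : φ ≫ f = CommRingCat.ofHom (algebraMap k Ω) := by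
      apply Spec.map_injective
      rw [Spec.map_comp, hφ, ← Category.assoc, ha]
      exact Over.w a
    exact congrArg (fun r : CommRingCat.of k ⟶ CommRingCat.of Ω => r.hom c) h1
  obtain ⟨τ, hτ⟩ := exists_algEquiv Ω (L := N.left.residueField z) { e.hom with commutes' := hc e x hx }
    { e'.hom with commutes' := hc e' y hy }
  refine ⟨τ, Over.OverMorphism.ext ?_⟩
  show Spec.map (CommRingCat.ofHom (τ : Ω →+* Ω)) ≫ x.left = y.left
  rw [← hx, ← hy, ← Category.assoc, ← Spec.map_comp]
  congr 2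
  ext c
  exact hτ c

/-- Every point of a finite scheme carries a geometric point. -/
theorem exists_im {N : Over (Spec (CommRingCat.of k))} [LocallyOfFiniteType N.hom] {z : N.left}
    (hz : IsClosed ({z} : Set N.left)) : ∃ x : P ⟶ N, im Ω x = z := by
  haveI : IsAlgClosed Ω := IsAlgClosure.isAlgClosed k
  let φ := Spec.preimage (N.left.fromSpecResidueField z ≫ N.hom)
  have hφ : Spec.map φ = N.left.fromSpecResidueField z ≫ N.hom := Spec.map_preimage _
  letI : Algebra k (N.left.residueField z) := φ.hom.toAlgebra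
  haveI : IsClosedImmersion (N.left.fromSpecResidueField z) := isClosed_singleton_iff_isClosedImmersion.1 hz
  have hlft : LocallyOfFiniteType (Spec.map φ) := by rw [hφ]; infer_instance
  haveI : Algebra.FiniteType k (N.left.residueField z) :=
    (HasRingHomProperty.Spec_iff.mp hlft : φ.hom.FiniteType)
  haveI : Module.Finite k (N.left.residueField z) := finite_of_finite_type_of_isJacobsonRing k _
  let e : N.left.residueField z →ₐ[k] Ω := IsAlgClosed.lift
  refine ⟨Over.homMk (Spec.map (CommRingCat.ofHom e.toRingHom) ≫ N.left.fromSpecResidueField z) ?_, ?_⟩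
  · show (Spec.map (CommRingCat.ofHom e.toRingHom) ≫ N.left.fromSpecResidueField z) ≫ N.hom =
      Spec.map (CommRingCat.ofHom (algebraMap k Ω))
    rw [Category.assoc, ← hφ, ← Spec.map_comp]
    congr 1
    ext c
    exact e.commutes c
  · show (Spec.map _ ≫ N.left.fromSpecResidueField z) _ = z
    rw [Scheme.Hom.comp_apply, Scheme.fromSpecResidueField_apply]

theorem discreteTopology_of_isFinite (N : Over (Spec (CommRingCat.of k))) [IsFinite N.hom] :
    DiscreteTopology N.left := by
  haveI : IsAffine N.left := isAffine_of_isAffineHom N.hom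
  let φ : CommRingCat.of k ⟶ Γ(N.left, ⊤) := Spec.preimage (N.left.isoSpec.inv ≫ N.hom)
  have hφ : Spec.map φ = N.left.isoSpec.inv ≫ N.hom := Spec.map_preimage _
  letI : Algebra k Γ(N.left, ⊤) := φ.hom.toAlgebra
  have hfin : IsFinite (Spec.map φ) := by rw [hφ]; infer_instance
  rw [IsFinite.SpecMap_iff] at hfin
  haveI : Module.Finite k Γ(N.left, ⊤) := hfin
  haveI : IsArtinianRing Γ(N.left, ⊤) := IsArtinianRing.of_finite k _
  haveI : DiscreteTopology (Spec Γ(N.left, ⊤)) := inferInstanceAs (DiscreteTopology (PrimeSpectrum _))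
  exact (Scheme.homeoOfIso N.left.isoSpec).isEmbedding.discreteTopology

variable {A : Over (Spec (CommRingCat.of k))} [GrpObj A] [IsCommMonObj A] [IsProper A.hom]
  [GeometricallyIntegral A.hom]

/-- The quotient by a Galois stable subgroup of the `n`-torsion. -/
theorem exists_quotient {n : ℕ} (hn : (n : k) ≠ 0) (D : Subgroup (P ⟶ A)) (hD : ∀ x ∈ D, x ^ n = 1)
    (hgal : ∀ (τ : Ω ≃ₐ[k] Ω), ∀ x ∈ D, SGA7.galAct τ x ∈ D) :
    ∃ (Y : Over (Spec (CommRingCat.of k))) (_ : GrpObj Y) (_ : IsCommMonObj Y) (_ : IsProper Y.hom)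
      (_ : GeometricallyIntegral Y.hom) (p : A ⟶ Y) (_ : IsMonHom p) (v : Y ⟶ A) (_ : IsMonHom v),
      p ≫ v = 𝟙 A ^ n ∧ v ≫ p = 𝟙 Y ^ n ∧ (∀ x : P ⟶ A, x ≫ p = 1 ↔ x ∈ D) ∧
        ∀ y : P ⟶ Y, ∃ x : P ⟶ A, x ≫ p = y := by
  haveI : IsAlgClosed Ω := IsAlgClosure.isAlgClosed k
  obtain ⟨hf, he, hs⟩ := TateTors22.mul_props (A := A) hn
  haveI := TateTors22.isMonHom_pow (A := A) n
  let f := 𝟙 A ^ n
  haveI : IsFinite f.left := hf
  haveI : Etale f.left := he
  let N : Over (Spec (CommRingCat.of k)) := Over.mk (pullback.snd f.left η[A].left)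
  haveI : IsFinite N.hom := MorphismProperty.pullback_snd _ _ ‹IsFinite f.left›
  haveI : Etale N.hom := MorphismProperty.pullback_snd _ _ ‹Etale f.left›
  let i : N ⟶ A := Over.homMk (pullback.fst f.left η[A].left) (by
    show pullback.fst f.left η[A].left ≫ A.hom = pullback.snd _ _
    rw [← Over.w f, pullback.condition_assoc, Over.w η[A]]
    exact Category.comp_id _)
  haveI : IsClosedImmersion η[A].left := by
    haveI : IsClosedImmersion (η[A].left ≫ A.hom) := by
      rw [Over.w η[A]]; exact inferInstanceAs (IsClosedImmersion (𝟙 _))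
    exact IsClosedImmersion.of_comp η[A].left A.hom
  haveI : IsClosedImmersion i.left := MorphismProperty.pullback_fst _ _ ‹IsClosedImmersion η[A].left›
  haveI : Mono i := (Over.forget _).mono_of_mono_map (f := i) (show Mono i.left from inferInstance)
  have hiN : ∀ {W : Over (Spec (CommRingCat.of k))} (a : W ⟶ N), (a ≫ i) ^ n = 1 := fun {W} a => by
    rw [← TateTors22.comp_pow_id]
    apply Over.OverMorphism.ext
    rw [Over.comp_left, Over.comp_left, Category.assoc, Hom.one_def, Over.comp_left]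
    show a.left ≫ pullback.fst f.left η[A].left ≫ f.left = _
    rw [pullback.condition, ← Category.assoc]
    congr 1
    exact (Over.w a).trans (Over.w (toUnit W)).symm
  have hiL : ∀ {W : Over (Spec (CommRingCat.of k))} (x : W ⟶ A), x ^ n = 1 → ∃ a : W ⟶ N, a ≫ i = x := fun {W} x hx => by
    have h : x.left ≫ f.left = W.hom ≫ η[A].left := by
      have := congrArg (fun a : W ⟶ A => a.left) ((TateTors22.comp_pow_id x n).trans hx)
      simp only [Over.comp_left] at this
      rw [this, Hom.one_def, Over.comp_left]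
      rfl
    exact ⟨Over.homMk (pullback.lift x.left _ h) (pullback.lift_snd _ _ _),
      Over.OverMorphism.ext (pullback.lift_fst _ _ _)⟩
  haveI := discreteTopology_of_isFinite N
  let U : N.left.Opens := ⟨{z | ∃ y : P ⟶ N, im Ω y = z ∧ y ≫ i ∈ D}, isOpen_discrete _⟩
  have hU : ∀ y : P ⟶ N, im Ω y ∈ U ↔ y ≫ i ∈ D := fun y => by
    refine ⟨fun ⟨y', hy', hD'⟩ => ?_, fun h => ⟨y, rfl, h⟩⟩
    obtain ⟨τ, rfl⟩ := exists_galAct_eq Ω y' y hy'
    exact (show (SGA7.galAct τ y') ≫ i = SGA7.galAct τ (y' ≫ i) from Category.assoc _ _ _) ▸ hgal τ _ hD'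
  let F : Over (Spec (CommRingCat.of k)) := Over.mk (U.ι ≫ N.hom)
  let j₀ : F ⟶ N := Over.homMk U.ι rfl
  haveI : IsClosedImmersion U.ι := IsClosedImmersion.of_isPreimmersion U.ι (by
    rw [Scheme.Opens.range_ι]; exact isClosed_discrete _)
  haveI : IsFinite U.ι := ((IsClosedImmersion.iff_isFinite_and_mono _).mp inferInstance).1
  haveI : IsFinite F.hom := inferInstanceAs (IsFinite (U.ι ≫ N.hom))
  let j : F ⟶ A := j₀ ≫ i
  haveI : Mono j₀ := (Over.forget _).mono_of_mono_map (f := j₀) (show Mono j₀.left from inferInstanceAs (Mono U.ι))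
  haveI : Mono j := mono_comp j₀ i
  have hfac : ∀ {W : Over (Spec (CommRingCat.of k))} [IsFinite W.hom] (x : W ⟶ A),
      x ^ n = 1 → (∀ w : P ⟶ W, w ≫ x ∈ D) → ∃ c : W ⟶ F, c ≫ j = x := fun {W} _ x hx hxD => by
    obtain ⟨a, rfl⟩ := hiL x hx
    haveI := discreteTopology_of_isFinite W
    have hr : Set.range a.left ⊆ Set.range U.ι := by
      rw [Scheme.Opens.range_ι]
      rintro _ ⟨z, rfl⟩
      obtain ⟨w, rfl⟩ := exists_im Ω (N := W) (isClosed_discrete {z})
      rw [← im_comp]
      exact (hU _).2 (by rw [Category.assoc]; exact hxD w)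
    refine ⟨Over.homMk (IsOpenImmersion.lift U.ι a.left hr) ?_, ?_⟩
    · show IsOpenImmersion.lift U.ι a.left hr ≫ U.ι ≫ N.hom = W.hom
      rw [← Category.assoc, IsOpenImmersion.lift_fac, Over.w a]
    · rw [← Category.assoc]
      congr 1
      exact Over.OverMorphism.ext (IsOpenImmersion.lift_fac U.ι a.left hr)
  have hFD : ∀ w : P ⟶ F, w ≫ j ∈ D := fun w => by
    rw [← Category.assoc]
    refine (hU _).1 ?_
    rw [im_comp]
    exact (Scheme.Opens.range_ι U).le ⟨_, rfl⟩
  haveI : IsFinite (F ⊗ F).hom := inferInstanceAs (IsFinite (pullback.fst F.hom F.hom ≫ F.hom))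
  haveI : IsFinite (𝟙_ (Over (Spec (CommRingCat.of k)))).hom := inferInstanceAs (IsFinite (𝟙 _))
  obtain ⟨cm, hcm⟩ := hfac ((fst F F ≫ j) * (snd F F ≫ j))
    (by rw [mul_pow, ← Category.assoc, hiN, ← Category.assoc, hiN, _root_.mul_one])
    fun w => by
      rw [MonObj.comp_mul]
      exact D.mul_mem (Category.assoc w (fst F F) j ▸ hFD (w ≫ fst F F)) (Category.assoc w (snd F F) j ▸ hFD (w ≫ snd F F))
  obtain ⟨ce, hce⟩ := hfac (1 : 𝟙_ _ ⟶ A) (one_pow n) fun w => by rw [MonObj.comp_one]; exact D.one_mem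
  obtain ⟨ci, hci⟩ := hfac j⁻¹ (by rw [inv_pow, hiN, inv_one]) fun w => by
    rw [GrpObj.comp_inv]; exact D.inv_mem (hFD w)
  obtain ⟨gF, hjm⟩ := MTRigid29.exists_grpObj_of_subgroup j
    (fun X a b => ⟨lift a b ≫ cm, by rw [Category.assoc, hcm, MonObj.comp_mul, lift_fst_assoc, lift_snd_assoc]⟩)
    ⟨ce, hce⟩ (fun X a => ⟨a ≫ ci, by rw [Category.assoc, hci, GrpObj.comp_inv]⟩)
  haveI := hjm
  haveI : QuasiCompact j.left := inferInstanceAs (QuasiCompact (U.ι ≫ i.left))
  haveI : Flat F.hom := inferInstance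
  haveI : LocallyOfFiniteType F.hom := inferInstance
  haveI : Flat A.hom := inferInstance
  have hNor : AlgGrp.IsNormalHom j := fun T g x =>
    ⟨x, by rw [mul_comm g, _root_.mul_assoc, mul_inv_cancel, _root_.mul_one]⟩
  obtain ⟨Y, gY, p, hpm, hpf, hps, hpp, hker, hsep, -, -⟩ := S3030.result k F A j hNor
  haveI := hpm; haveI := hpf; haveI := hps; haveI := hpp; haveI := hsep
  haveI : IsProper (p.left ≫ Y.hom) := by rw [Over.w p]; infer_instance
  haveI : GeometricallyIntegral (p.left ≫ Y.hom) := by rw [Over.w p]; infer_instance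
  haveI : IsProper Y.hom := ThetaSch13.isProper_of_fppf p.left Y.hom
  haveI : GeometricallyIntegral Y.hom := ThetaSch13.geometricallyIntegral_of_flat_surjective p.left Y.hom
  haveI : IsCommMonObj Y := isCommMonObj_of_isProper_of_geometricallyIntegral Y
  have hjp : j ≫ p = 1 := by rw [hker.w, Hom.one_def]
  haveI : IsProper p.left := .of_comp _ Y.hom
  haveI : Smooth Y.hom := @smooth_of_grpObj k _ _ Y.hom _ (show GrpObj (Over.mk Y.hom) from ‹GrpObj Y›) _
  obtain ⟨v, hv, -⟩ := AbRigid.descend_of_flat p (𝟙 A ^ n) fun W a b hab => by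
    rw [TateTors22.comp_pow_id, TateTors22.comp_pow_id, ← mul_inv_eq_one, ← inv_pow, ← mul_pow]
    have h1 : (a * b⁻¹) ≫ p = toUnit W ≫ η[Y] := by
      rw [MonObj.mul_comp, GrpObj.inv_comp, hab, mul_inv_cancel, Hom.one_def]
    rw [← hker.lift_fst (a * b⁻¹) (toUnit W) h1, ← Category.assoc, hiN]
  haveI hvm : IsMonHom v := RatMapAV.isMonHom_of_smooth Y A v (by
    rw [← IsMonHom.one_hom p, Category.assoc, ← hv, TateTors22.comp_pow_id,
      show η[A] = (1 : 𝟙_ _ ⟶ A) by rw [Hom.one_def, toUnit_unique (toUnit _) (𝟙 _), Category.id_comp], one_pow])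
  haveI : Epi p.left := Flat.epi_of_flat_of_surjective p.left
  haveI : Epi p := (Over.forget _).epi_of_epi_map (f := p) (inferInstanceAs (Epi p.left))
  refine ⟨Y, gY, inferInstance, inferInstance, inferInstance, p, hpm, v, hvm, hv.symm, ?_, fun x => ⟨fun hx => ?_, fun hx => ?_⟩,
    fun y => ?_⟩
  · rw [← cancel_epi p, ← Category.assoc, ← hv, Isogeny14.hom_pow_comp, Category.id_comp, MonObj.comp_pow,
      Category.comp_id]
  · rw [← hker.lift_fst x (toUnit _) (by rw [hx, Hom.one_def])]
    exact hFD _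
  · obtain ⟨a, rfl⟩ := hiL x (hD x hx)
    have hr : Set.range a.left ⊆ Set.range U.ι := by
      rw [Scheme.Opens.range_ι]
      rintro _ ⟨z, rfl⟩
      rw [show z = IsLocalRing.closedPoint Ω from Subsingleton.elim (α := PrimeSpectrum Ω) _ _]
      exact (hU a).2 hx
    let c : P ⟶ F := Over.homMk (IsOpenImmersion.lift U.ι a.left hr) (by
      show IsOpenImmersion.lift U.ι a.left hr ≫ U.ι ≫ N.hom = (P).hom
      rw [← Category.assoc, IsOpenImmersion.lift_fac, Over.w a])
    rw [show a = c ≫ j₀ from (Over.OverMorphism.ext (IsOpenImmersion.lift_fac U.ι a.left hr)).symm,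
      Category.assoc, Category.assoc, ← Category.assoc j₀, show (j₀ ≫ i) ≫ p = 1 from hjp, MonObj.comp_one]
  · let P' := pullback p.left y.left
    haveI : Surjective (pullback.snd p.left y.left) := MorphismProperty.pullback_snd _ _ ‹Surjective p.left›
    haveI : LocallyOfFiniteType (pullback.snd p.left y.left) := MorphismProperty.pullback_snd _ _ inferInstance
    haveI : QuasiCompact (pullback.snd p.left y.left) := MorphismProperty.pullback_snd _ _ inferInstance
    obtain ⟨w, -⟩ := (pullback.snd p.left y.left).surjective (IsLocalRing.closedPoint Ω)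
    haveI : Nonempty P' := ⟨w⟩
    haveI : CompactSpace P' := QuasiCompact.compactSpace_of_compactSpace (pullback.snd p.left y.left)
    obtain ⟨z, -, hzc⟩ := isClosed_univ.exists_closed_singleton (S := (Set.univ : Set P')) Set.univ_nonempty
    let σ := pointOfClosedPoint (pullback.snd p.left y.left) z hzc
    have hσ : σ ≫ pullback.snd p.left y.left = 𝟙 _ := pointOfClosedPoint_comp _ z hzc
    have h1 : (σ ≫ pullback.fst p.left y.left) ≫ p.left = y.left := by
      rw [Category.assoc, pullback.condition, ← Category.assoc, hσ, Category.id_comp]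
    refine ⟨Over.homMk (σ ≫ pullback.fst p.left y.left) ?_, Over.OverMorphism.ext h1⟩
    rw [← Over.w p, ← Category.assoc, h1]
    exact Over.w y

end Groth.Agent.TateSub22

end
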