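import Groth.Agent.Lib.TateSub22.Quot
import Groth.Agent.Lib.TateTors22.TateFinite
import Groth.Agent.Lib.TateTors22.Coker
import Groth.Agent.Lib.TateTors22.TateRank
import Mathlib.NumberTheory.Padics.ProperSpace
import Mathlib.Topology.Sequences
import Mathlib.Topology.Instances.Matrix

/-!
# A Galois stable subspace of the rational Tate module is an image
-/

universe u

open CategoryTheory Limits MonoidalCategory CartesianMonoidalCategory AlgebraicGeometry
open scoped MonObj GrpObj TensorProduct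

set_option linter.style.haveILetI false
set_option linter.unusedSectionVars false
set_option maxHeartbeats 1000000
set_option backward.isDefEq.respectTransparency false

noncomputable section

namespace Groth.Agent.TateSub22

section Topology

variable {l : ℕ} [Fact l.Prime]

/-- Submodules of a finite free module over the `l`-adic integers are closed. -/
theorem isClosed_submodule {E : Type*} [AddCommGroup E] [Module ℤ_[l] E] [TopologicalSpace E] [T2Space E]
    [ContinuousAdd E] [ContinuousSMul ℤ_[l] E] [Module.Finite ℤ_[l] E] (S : Submodule ℤ_[l] E) :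
    IsClosed (S : Set E) := by
  haveI : IsNoetherian ℤ_[l] E := isNoetherian_of_isNoetherianRing_of_finite ℤ_[l] E
  obtain ⟨r, s, hs⟩ := Submodule.fg_iff_exists_fin_generating_family.1 (IsNoetherian.noetherian S)
  let L : (Fin r → ℤ_[l]) →ₗ[ℤ_[l]] E := Fintype.linearCombination ℤ_[l] s
  have hL : Continuous L := by
    show Continuous fun c : Fin r → ℤ_[l] => ∑ i, c i • s i
    fun_prop
  have hS : (S : Set E) = Set.range L := by
    rw [← hs, ← Fintype.range_linearCombination ℤ_[l] s]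
    rfl
  rw [hS]
  exact (isCompact_range hL).isClosed

/-- Matrix times vector, for plain functions. -/
def mv {d : ℕ} (A : Fin d → Fin d → ℤ_[l]) (v : Fin d → ℤ_[l]) : Fin d → ℤ_[l] := fun a => ∑ j, A a j * v j

theorem continuous_mv {d : ℕ} : Continuous fun p : (Fin d → Fin d → ℤ_[l]) × (Fin d → ℤ_[l]) => mv p.1 p.2 := by
  unfold mv; fun_prop

theorem tendsto_mv {d : ℕ} {A : ℕ → Fin d → Fin d → ℤ_[l]} {v : ℕ → Fin d → ℤ_[l]} {A₀ : Fin d → Fin d → ℤ_[l]}
    {v₀ : Fin d → ℤ_[l]} (hA : Filter.Tendsto A Filter.atTop (nhds A₀)) (hv : Filter.Tendsto v Filter.atTop (nhds v₀)) :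
    Filter.Tendsto (fun i => mv (A i) (v i)) Filter.atTop (nhds (mv A₀ v₀)) :=
  (continuous_mv.tendsto (A₀, v₀)).comp (hA.prodMk_nhds hv)

theorem tendsto_pow_smul {d : ℕ} (t : ℕ → Fin d → ℤ_[l]) (φ : ℕ → ℕ) (hφ : StrictMono φ) :
    Filter.Tendsto (fun i => (l : ℤ_[l]) ^ φ i • t i) Filter.atTop (nhds 0) := by
  rw [tendsto_pi_nhds]
  intro j
  refine squeeze_zero_norm (fun i => ?_) ((tendsto_pow_atTop_nhds_zero_of_lt_one (r := ((l : ℝ))⁻¹) (by positivity)
    (inv_lt_one_of_one_lt₀ (by exact_mod_cast (Fact.out : l.Prime).one_lt))).comp hφ.tendsto_atTop)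
  simp only [Pi.smul_apply, smul_eq_mul, Function.comp_apply, norm_mul, norm_pow, PadicInt.norm_p]
  exact mul_le_of_le_one_right (by positivity) (PadicInt.norm_le_one _)

/-- Compactness: the limit of linear maps approximating a submodule. -/
theorem exists_limit {T : Type*} [AddCommGroup T] [Module ℤ_[l] T] [Module.Free ℤ_[l] T] [Module.Finite ℤ_[l] T]
    (M : Submodule ℤ_[l] (Module.End ℤ_[l] T)) (S : Submodule ℤ_[l] T) (N : ℕ) (φ : ℕ → ℕ) (hφ : StrictMono φ)
    (f : ℕ → Module.End ℤ_[l] T) (hf : ∀ i, f i ∈ M)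
    (h1 : ∀ i x, ∃ w ∈ S, ∃ t : T, f i x = w + (l : ℤ_[l]) ^ φ i • t)
    (h2 : ∀ i, ∀ w ∈ S, ∃ x, f i x = (l : ℤ_[l]) ^ N • w) :
    ∃ g ∈ M, (∀ x, g x ∈ S) ∧ ∀ w ∈ S, ∃ x, g x = (l : ℤ_[l]) ^ N • w := by
  classical
  let b := Module.finBasis ℤ_[l] T
  obtain ⟨c, Φ, hΦ⟩ : ∃ (c : T ≃ₗ[ℤ_[l]] (Fin (Module.finrank ℤ_[l] T) → ℤ_[l]))
      (Φ : Module.End ℤ_[l] T ≃ₗ[ℤ_[l]] (Fin (Module.finrank ℤ_[l] T) → Fin (Module.finrank ℤ_[l] T) → ℤ_[l])),
      ∀ g x, c (g x) = mv (Φ g) (c x) :=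
    ⟨b.equivFun, (LinearMap.toMatrix b b).trans (Matrix.ofLinearEquiv ℤ_[l]).symm,
      fun g x => (LinearMap.toMatrix_mulVec_repr b b g x).symm⟩
  clear_value b
  obtain ⟨G, -, ψ, hψ, hF⟩ := (isCompact_univ (X := Fin (Module.finrank ℤ_[l] T) →
      Fin (Module.finrank ℤ_[l] T) → ℤ_[l])).tendsto_subseq (x := fun i => Φ (f i)) fun i => Set.mem_univ _
  obtain ⟨g, hg, hgG⟩ : G ∈ M.map (Φ : Module.End ℤ_[l] T →ₗ[ℤ_[l]]
      (Fin (Module.finrank ℤ_[l] T) → Fin (Module.finrank ℤ_[l] T) → ℤ_[l])) :=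
    (isClosed_submodule (M.map (Φ : Module.End ℤ_[l] T →ₗ[ℤ_[l]] _))).mem_of_tendsto hF
      (Filter.Eventually.of_forall fun i => Submodule.mem_map_of_mem (hf _))
  change Φ g = G at hgG
  have hlim : ∀ (y : ℕ → (Fin (Module.finrank ℤ_[l] T) → ℤ_[l])) (y₀) (χ : ℕ → ℕ), StrictMono χ →
      Filter.Tendsto y Filter.atTop (nhds y₀) →
      Filter.Tendsto (fun i => mv (Φ (f (ψ (χ i)))) (y i)) Filter.atTop (nhds (mv G y₀)) := by
    intro y y₀ χ hχ hy
    exact tendsto_mv (A := fun i => Φ (f (ψ (χ i)))) (hF.comp hχ.tendsto_atTop) hy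
  have hS := isClosed_submodule (S.map c.toLinearMap)
  refine ⟨g, hg, fun x => ?_, fun w hw => ?_⟩
  · choose w hw t ht using fun i => h1 (ψ i) x
    have h := hlim (fun _ => c x) (c x) id strictMono_id tendsto_const_nhds
    simp only [id_eq, ← hΦ, ← hgG, ht, map_add, map_smul] at h
    have h0 := tendsto_pow_smul (fun i => c (t i)) (fun i => φ (ψ i)) (hφ.comp hψ)
    have h3 := h.sub h0
    simp only [add_sub_cancel_right, sub_zero] at h3
    obtain ⟨s, hs, hse⟩ : c (g x) ∈ (S.map c.toLinearMap : Set _) :=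
      hS.mem_of_tendsto h3 (Filter.Eventually.of_forall fun i => Submodule.mem_map_of_mem (hw i))
    exact c.injective hse ▸ hs
  · choose x hx using fun i => h2 (ψ i) w hw
    obtain ⟨y₀, -, χ, hχ, hy⟩ := (isCompact_univ (X := Fin (Module.finrank ℤ_[l] T) → ℤ_[l])).tendsto_subseq
      (x := fun i => c (x i)) fun i => Set.mem_univ _
    have h := hlim (fun i => c (x (χ i))) y₀ χ hχ hy
    simp only [← hΦ, hx] at h
    refine ⟨c.symm y₀, c.injective ?_⟩
    rw [hΦ, LinearEquiv.apply_symm_apply, hgG]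
    exact (tendsto_nhds_unique tendsto_const_nhds h).symm

end Topology

variable {k : Type u} [Field k] (Ω : Type u) [Field Ω] [Algebra k Ω] [IsAlgClosure k Ω] (l : ℕ) [Fact l.Prime]
  {X : Over (Spec (CommRingCat.of k))} [GrpObj X] [IsCommMonObj X] [IsProper X.hom] [GeometricallyIntegral X.hom]

local notation "P" => SGA7.pt (K := k) Ω

/-- Components as points. -/
abbrev co (n : ℕ) (z : AbDual.TateMod X l P) : P ⟶ X := ((z : ℕ → Additive (P ⟶ X)) n).toMul

theorem exists_smul_of_co_eq_one {n : ℕ} {z : AbDual.TateMod X l P} (hz : co Ω l n z = 1) :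
    ∃ t : AbDual.TateMod X l P, z = (l : ℤ_[l]) ^ n • t := by
  haveI : IsAlgClosed Ω := IsAlgClosure.isAlgClosed k
  induction n generalizing z with
  | zero => exact ⟨z, by rw [pow_zero, one_smul]⟩
  | succ n ih =>
    have h1 : co Ω l n z = 1 := by
      rw [co, ← z.2.2 n, toMul_nsmul, show ((z : ℕ → Additive (P ⟶ X)) (n + 1)).toMul = 1 from hz, one_pow]
    obtain ⟨t, rfl⟩ := ih h1
    have h2 : (t : ℕ → Additive (P ⟶ X)) 1 = 0 := by
      have h3 : (((l : ℤ_[l]) ^ n • t : AbDual.TateMod X l P) : ℕ → Additive (P ⟶ X)) (n + 1) = 0 := hz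
      rw [← Nat.cast_pow, Nat.cast_smul_eq_nsmul] at h3
      refine Eq.trans ?_ h3
      show _ = l ^ n • (t : ℕ → Additive (P ⟶ X)) (n + 1)
      have := TateTors22.compat_pow (K := Ω) l t 1 n
      rw [Nat.add_comm n 1]
      exact (congrArg Additive.ofMul this).symm
    obtain ⟨s, rfl⟩ := TateTors22.exists_eq_smul (K := Ω) l h2
    exact ⟨s, by rw [pow_succ, mul_smul]⟩

variable (S : Submodule ℤ_[l] (AbDual.TateMod X l (SGA7.pt (K := k) Ω)))

/-- The points of level `n` of a submodule. -/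
def level (n : ℕ) : Subgroup (P ⟶ X) where
  carrier := {x | ∃ z : AbDual.TateMod X l P, z ∈ S ∧ co Ω l n z = x}
  one_mem' := ⟨0, S.zero_mem, rfl⟩
  mul_mem' := by
    intro a b ha hb
    obtain ⟨z, hz, rfl⟩ := ha
    obtain ⟨w, hw, rfl⟩ := hb
    exact ⟨z + w, S.add_mem hz hw, rfl⟩
  inv_mem' := by rintro _ ⟨z, hz, rfl⟩; exact ⟨-z, S.neg_mem hz, rfl⟩

/-- The span of the endomorphisms. -/
abbrev endSpan (X : Over (Spec (CommRingCat.of k))) [GrpObj X] [IsCommMonObj X] :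
    Submodule ℤ_[l] (Module.End ℤ_[l] (AbDual.TateMod X l P)) :=
  Submodule.span ℤ_[l] {ψ | ∃ (f : X ⟶ X) (_ : IsMonHom f), ψ = AbDual.tateMapₗ (l := l) (T := P) f}

/-- Tate's proposition: a Galois stable submodule is almost the image of an endomorphism. -/
theorem exists_range (hl : (l : k) ≠ 0)
    (hFin : (∃ (J : Type u) (_ : Finite J) (F : J → Over (Spec (CommRingCat.of k))),
        ∀ (Y : Over (Spec (CommRingCat.of k))) [GrpObj Y] [IsCommMonObj Y] [IsProper Y.hom] [GeometricallyIntegral Y.hom]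
          (u : X ⟶ Y) [IsMonHom u] (v : Y ⟶ X) [IsMonHom v] (m : ℕ),
          u ≫ v = (𝟙 X) ^ (l ^ m) → v ≫ u = (𝟙 Y) ^ (l ^ m) → ∃ i, Nonempty (Y ≅ F i)))
    [Module.Free ℤ_[l] (AbDual.TateMod X l P)] [Module.Finite ℤ_[l] (AbDual.TateMod X l P)]
    (hS : ∀ (τ : Ω ≃ₐ[k] Ω), ∀ z ∈ S, ∀ n, ∃ w ∈ S, co Ω l n w = SGA7.galAct τ (co Ω l n z)) :
    ∃ g ∈ endSpan Ω l X, (∀ x, g x ∈ S) ∧ ∃ N : ℕ, ∀ w ∈ S, ∃ x, g x = (l : ℤ_[l]) ^ N • w := by
  haveI : IsAlgClosed Ω := IsAlgClosure.isAlgClosed k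
  have hln : ∀ n : ℕ, ((l ^ n : ℕ) : k) ≠ 0 := fun n => by rw [Nat.cast_pow]; exact pow_ne_zero _ hl
  have hQ := fun n => exists_quotient Ω (A := X) (hln n) (level Ω l S n)
    (by rintro _ ⟨z, -, rfl⟩; exact congrArg Additive.toMul (z.2.1 n))
    (by rintro τ _ ⟨z, hz, rfl⟩; exact hS τ z hz n)
  choose Y gY cY pY iY p hp v hv hpv hvp hker hsurj using hQ
  obtain ⟨J, hJ, Fm, hFm⟩ := hFin
  haveI := hJ
  choose idx hidx using fun n => hFm (Y n) (p n) (v n) n (hpv n) (hvp n)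
  obtain ⟨j, hj⟩ := Finite.exists_infinite_fiber idx
  rw [Set.infinite_coe_iff] at hj
  obtain ⟨φ, hφ, hφj⟩ := Filter.extraction_of_frequently_atTop
    (Filter.frequently_atTop.2 fun a => by
      obtain ⟨b, hb, hab⟩ := hj.exists_gt a
      exact ⟨b, hab.le, hb⟩)
  let N := φ 0
  obtain ⟨eN⟩ := hidx N
  have em := fun i => hidx (φ i)
  let e : ∀ i, Y N ≅ Y (φ i) := fun i => eN ≪≫ eqToIso (by rw [hφj 0, hφj i]) ≪≫ (em i).some.symm
  let cst : ∀ i, (𝟙_ (Over (Spec (CommRingCat.of k))) ⟶ Y (φ i)) := fun i => η[Y N] ≫ (e i).hom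
  let e₁ : ∀ i, (Y N ⟶ Y (φ i)) := fun i => (e i).hom * (toUnit _ ≫ cst i)⁻¹
  let e₂ : ∀ i, (Y (φ i) ⟶ Y N) := fun i => (𝟙 _ * (toUnit _ ≫ cst i)) ≫ (e i).inv
  have hone : ∀ (Z : Over (Spec (CommRingCat.of k))) [GrpObj Z], η[Z] = (1 : 𝟙_ _ ⟶ Z) := fun Z _ => by
    rw [Hom.one_def, toUnit_unique (toUnit _) (𝟙 _), Category.id_comp]
  have hm₁ : ∀ i, IsMonHom (e₁ i) := fun i => by
    haveI : Smooth (Y N).hom := @smooth_of_grpObj k _ _ (Y N).hom _ (show GrpObj (Over.mk (Y N).hom) from gY N) _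
    refine RatMapAV.isMonHom_of_smooth (Y N) (Y (φ i)) _ ?_
    rw [hone (Y (φ i)), MonObj.comp_mul, GrpObj.comp_inv, ← Category.assoc,
      toUnit_unique (η[Y N] ≫ toUnit (Y N)) (𝟙 _), Category.id_comp, mul_inv_cancel]
  have hm₂ : ∀ i, IsMonHom (e₂ i) := fun i => by
    haveI : Smooth (Y (φ i)).hom :=
      @smooth_of_grpObj k _ _ (Y (φ i)).hom _ (show GrpObj (Over.mk (Y (φ i)).hom) from gY (φ i)) _
    refine RatMapAV.isMonHom_of_smooth (Y (φ i)) (Y N) _ ?_
    rw [← Category.assoc, MonObj.comp_mul, Category.comp_id, ← Category.assoc,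
      toUnit_unique (η[Y (φ i)] ≫ toUnit (Y (φ i))) (𝟙 _), Category.id_comp, hone (Y (φ i)), _root_.one_mul,
      Category.assoc, Iso.hom_inv_id, Category.comp_id]
  have h21 : ∀ i, e₂ i ≫ e₁ i = 𝟙 _ := fun i => by
    simp only [e₂, e₁]
    rw [MonObj.comp_mul, Category.assoc, Iso.inv_hom_id, Category.comp_id, GrpObj.comp_inv, comp_toUnit_assoc,
      mul_inv_cancel_right]
  let f : ℕ → Module.End ℤ_[l] (AbDual.TateMod X l P) := fun i =>
    haveI := hm₁ i
    AbDual.tateMapₗ (l := l) (T := P) (p N ≫ e₁ i ≫ v (φ i))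
  obtain ⟨g, hg, hgS, hgw⟩ := exists_limit (endSpan Ω l X) S N φ hφ f
    (fun i => Submodule.subset_span ⟨_, inferInstance, rfl⟩)
    (fun i x => by
      haveI := hm₁ i
      set y : P ⟶ Y (φ i) := (co Ω l (φ i) x ≫ p N) ≫ e₁ i with hy
      obtain ⟨x', hx'⟩ := hsurj (φ i) y
      have h1 : co Ω l (φ i) (f i x) = x' ^ (l ^ φ i) := by
        show co Ω l (φ i) x ≫ p N ≫ e₁ i ≫ v (φ i) = _
        rw [← Category.assoc, ← Category.assoc, ← hy, ← hx', Category.assoc, hpv, MonObj.comp_pow, Category.comp_id]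
      obtain ⟨w, hw, hwe⟩ : x' ^ (l ^ φ i) ∈ level Ω l S (φ i) := by
        rw [← hker, ← Category.comp_id x', ← MonObj.comp_pow, Category.assoc, Isogeny14.hom_pow_comp,
          Category.id_comp, MonObj.comp_pow, hx', hy, ← Isogeny14.hom_pow_comp, ← Isogeny14.hom_pow_comp,
          show co Ω l (φ i) x ^ (l ^ φ i) = 1 from congrArg Additive.toMul (x.2.1 (φ i)), MonObj.one_comp,
          MonObj.one_comp]
      obtain ⟨t, ht⟩ := exists_smul_of_co_eq_one Ω l (n := φ i) (z := f i x - w) (by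
        rw [show f i x - w = f i x + -w from sub_eq_add_neg _ _]
        show co Ω l (φ i) (f i x) * (co Ω l (φ i) w)⁻¹ = 1
        rw [h1, hwe, mul_inv_cancel])
      exact ⟨w, hw, t, by rw [← ht, add_sub_cancel]⟩)
    (fun i w hw => by
      haveI := hm₁ i
      haveI := hm₂ i
      let y : AbDual.TateMod (Y (φ i)) l P := ⟨fun j => Additive.ofMul (co Ω l (φ i + j) w ≫ p (φ i)),
        ⟨fun j => by
          show Additive.ofMul ((co Ω l (φ i + j) w ≫ p (φ i)) ^ (l ^ j)) = 0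
          rw [← Isogeny14.hom_pow_comp, show co Ω l (φ i + j) w ^ (l ^ j) = co Ω l (φ i) w from
            TateTors22.compat_pow (K := Ω) l w (φ i) j, (hker (φ i) _).2 ⟨w, hw, rfl⟩]
          rfl,
        fun j => by
          show Additive.ofMul ((co Ω l (φ i + (j + 1)) w ≫ p (φ i)) ^ l) = _
          rw [← Isogeny14.hom_pow_comp]
          exact congrArg (fun a : P ⟶ X => Additive.ofMul (a ≫ p (φ i))) (congrArg Additive.toMul (w.2.2 (φ i + j)))⟩⟩
      refine ⟨AbDual.tateMapₗ (l := l) (T := P) (e₂ i ≫ v N) y, AbDual.TateMod.ext fun j => ?_⟩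
      rw [← Nat.cast_pow, Nat.cast_smul_eq_nsmul]
      show Additive.ofMul (((co Ω l (φ i + j) w ≫ p (φ i)) ≫ (e₂ i ≫ v N)) ≫ p N ≫ e₁ i ≫ v (φ i)) =
        Additive.ofMul (co Ω l j w ^ (l ^ N))
      congr 1
      simp only [Category.assoc]
      rw [← Category.assoc (v N), hvp, Isogeny14.hom_pow_comp, Category.id_comp, MonObj.comp_pow, MonObj.comp_pow,
        ← Category.assoc (e₂ i), h21, Category.id_comp, hpv, MonObj.comp_pow, MonObj.comp_pow, Category.comp_id]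
      congr 1
      rw [Nat.add_comm (φ i) j]
      exact TateTors22.compat_pow (K := Ω) l w j (φ i))
  exact ⟨g, hg, hgS, N, hgw⟩

end Groth.Agent.TateSub22

end
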